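import Mathlib

set_option autoImplicit false
set_option backward.isDefEq.respectTransparency false

universe u

noncomputable section

open PowerSeries

namespace GaGmFixLib

variable (k : Type u) [Field k]

abbrev O : Type u := PowerSeries k
abbrev K : Type u := FractionRing (PowerSeries k)

variable (A : Type u) [CommRing A] [Algebra k A]

abbrev B : Type u := PowerSeries A
abbrev L : Type u := Localization.Away (PowerSeries.X : PowerSeries A)

def cst : A →ₐ[k] B A :=
  { PowerSeries.C with commutes' := fun c => (IsScalarTower.algebraMap_apply k A (B A) c).symm }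

def cc : B A →ₐ[k] A :=
  AlgHom.mk (PowerSeries.constantCoeff (R := A)) (fun c => by
      change PowerSeries.constantCoeff (algebraMap k (B A) c) = algebraMap k A c
      rw [IsScalarTower.algebraMap_apply k A (B A) c]
      exact PowerSeries.constantCoeff_C _)

def jL : B A →ₐ[k] L A := IsScalarTower.toAlgHom k (B A) (L A)

theorem jL_injective : Function.Injective (jL k A) := by
  refine IsLocalization.injective (L A) (M := Submonoid.powers (PowerSeries.X : PowerSeries A)) ?_
  rintro x ⟨n, rfl⟩
  exact pow_mem (mem_nonZeroDivisors_iff_right.mpr fun y hy =>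
    PowerSeries.X_mul_cancel (by rw [mul_zero, mul_comm, hy])) n

theorem jL_X_isUnit : IsUnit (jL k A PowerSeries.X) :=
  IsLocalization.Away.algebraMap_isUnit (S := L A) (PowerSeries.X : PowerSeries A)

variable {A}

theorem exists_ext (h : O k →ₐ[k] B A) (hX : IsUnit (jL k A (h PowerSeries.X))) :
    ∃ ψ : K k →ₐ[k] L A, ψ.comp (IsScalarTower.toAlgHom k (O k) (K k)) = (jL k A).comp h := by
  have hu : ∀ y : nonZeroDivisors (O k), IsUnit ((jL k A).comp h y) := by
    rintro ⟨f, hf⟩
    have hf0 : f ≠ 0 := nonZeroDivisors.ne_zero hf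
    have h2 : IsUnit (divXPowOrder f) := by
      rw [isUnit_iff_constantCoeff, isUnit_iff_ne_zero, ne_eq, constantCoeff_divXPowOrder_eq_zero_iff]
      exact hf0
    change IsUnit ((jL k A).comp h f)
    rw [← X_pow_order_mul_divXPowOrder (f := f), map_mul, map_pow]
    exact (hX.pow _).mul (h2.map ((jL k A).comp h))
  refine ⟨IsLocalization.liftAlgHom (M := nonZeroDivisors (O k)) (f := (jL k A).comp h) hu, ?_⟩
  ext x
  exact IsLocalization.lift_eq _ x

theorem hom_ext_O_cc (h : O k →ₐ[k] B A) (h0 : PowerSeries.constantCoeff (h PowerSeries.X) = 0) :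
    (cc k A).comp h = (Algebra.ofId k A).comp (cc k k) := by
  ext f
  change cc k A (h f) = algebraMap k A (constantCoeff f)
  conv_lhs => rw [eq_shift_mul_X_add_const f]
  rw [map_add, map_add, map_mul, map_mul]
  have h1 : (PowerSeries.C (constantCoeff f) : O k) = algebraMap k (O k) (constantCoeff f) := by
    rw [IsScalarTower.algebraMap_apply k k (O k)]; rfl
  rw [h1, AlgHom.commutes, AlgHom.commutes]
  change _ * constantCoeff (h PowerSeries.X) + _ = _
  rw [h0, mul_zero, zero_add]

/-- base change of power series -/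
def bcO (A : Type u) [CommRing A] [Algebra k A] : O k →ₐ[k] B A := PowerSeries.mapAlgHom (Algebra.ofId k A)

theorem bcO_X : bcO k A PowerSeries.X = PowerSeries.X := by
  rw [bcO, PowerSeries.mapAlgHom_apply]; exact PowerSeries.map_X _

/-- the translation reparametrisation `s ↦ s / (1 + c s)` -/
theorem exists_addSub (c : A) : ∃ (φ : O k →ₐ[k] B A) (v : B A),
    φ PowerSeries.X = PowerSeries.X * v ∧ v * (1 + PowerSeries.C c * PowerSeries.X) = 1 := by
  let d : B A := 1 + PowerSeries.C c * PowerSeries.X
  let v : B A := PowerSeries.invOfUnit d 1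
  have hv : d * v = 1 := PowerSeries.mul_invOfUnit d 1 (by simp [d])
  have h0 : PowerSeries.constantCoeff (PowerSeries.X * v : B A) = 0 := by simp
  have ha : PowerSeries.HasSubst (PowerSeries.X * v : B A) := PowerSeries.HasSubst.of_constantCoeff_zero' h0
  exact ⟨PowerSeries.substAlgHom ha, v, PowerSeries.substAlgHom_X ha, by rw [mul_comm]; exact hv⟩

/-- the scaling reparametrisation `s ↦ c s` -/
theorem exists_mulSub (c : A) : ∃ φ : O k →ₐ[k] B A, φ PowerSeries.X = PowerSeries.C c * PowerSeries.X := by
  have h0 : PowerSeries.constantCoeff (PowerSeries.C c * PowerSeries.X : B A) = 0 := by simp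
  exact ⟨_, PowerSeries.substAlgHom_X (PowerSeries.HasSubst.of_constantCoeff_zero' h0)⟩

end GaGmFixLib
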