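import Groth.Agent.GaGmFixLib.Alg
import Groth.Agent.GaGmKerLib.GaPts
import Groth.Prelude.Def_AlgGrp

set_option autoImplicit false
set_option backward.isDefEq.respectTransparency false
set_option backward.isDefEq.respectTransparency.types false

universe u

noncomputable section

open CategoryTheory MonoidalCategory CartesianMonoidalCategory AlgebraicGeometry Limits MonObj GrpObj

namespace GaGmFixLib

attribute [-instance] CategoryTheory.Hom.commGroup

variable (k : Type u) [Field k]

local notation "SK" => Spec (CommRingCat.of k)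

/-- an algebra as a scheme over `k` -/
abbrev P (A : Type u) [CommRing A] [Algebra k A] : Over (Spec (CommRingCat.of k)) :=
  Over.mk (Spec.map (CommRingCat.ofHom (algebraMap k A)))

variable {k}

/-- functoriality -/
def PM {A B : Type u} [CommRing A] [CommRing B] [Algebra k A] [Algebra k B] (f : A →ₐ[k] B) : P k B ⟶ P k A :=
  Over.homMk (Spec.map (CommRingCat.ofHom f.toRingHom)) (by
    simp only [Over.mk_hom]
    rw [← Spec.map_comp, ← CommRingCat.ofHom_comp]
    congr 2
    exact f.comp_algebraMap)

theorem PM_left {A B : Type u} [CommRing A] [CommRing B] [Algebra k A] [Algebra k B] (f : A →ₐ[k] B) :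
    (PM f).left = Spec.map (CommRingCat.ofHom f.toRingHom) := rfl

theorem PM_comp {A B C : Type u} [CommRing A] [CommRing B] [CommRing C] [Algebra k A] [Algebra k B] [Algebra k C]
    (f : A →ₐ[k] B) (g : B →ₐ[k] C) : PM (g.comp f) = PM g ≫ PM f := by
  ext1
  rw [Over.comp_left, PM_left, PM_left, PM_left, ← Spec.map_comp, ← CommRingCat.ofHom_comp]
  rfl

theorem hom_ext_injective {A B : Type u} [CommRing A] [CommRing B] [Algebra k A] [Algebra k B]
    {X : Over SK} [IsSeparated X.hom] (i : A →ₐ[k] B) (hi : Function.Injective i) {a b : P k A ⟶ X}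
    (h : PM i ≫ a = PM i ≫ b) : a = b := by
  haveI : IsClosedImmersion (pullback.diagonal X.hom) := IsSeparated.isClosedImmersion_diagonal
  let ab : (P k A).left ⟶ pullback X.hom X.hom := pullback.lift a.left b.left ((Over.w a).trans (Over.w b).symm)
  let jZ := pullback.fst ab (pullback.diagonal X.hom)
  have hfac : (PM i).left ≫ ab = ((PM i).left ≫ a.left) ≫ pullback.diagonal X.hom := by
    have h' := congrArg Over.Hom.left h
    rw [Over.comp_left, Over.comp_left] at h'
    apply pullback.hom_ext
    · simp [ab]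
    · simp [ab, h']
  let l := pullback.lift (PM i).left ((PM i).left ≫ a.left) hfac
  have hl : l ≫ jZ = (PM i).left := pullback.lift_fst _ _ _
  haveI : IsAffine (P k A).left := inferInstanceAs (IsAffine (Spec (CommRingCat.of A)))
  obtain ⟨hZ, hsurj⟩ := IsClosedImmersion.isAffine_surjective_of_isAffine jZ
  have hinj : Function.Injective jZ.appTop := by
    have h1 : Function.Injective ((PM i).left).appTop := by
      intro x y e
      have hn := Scheme.ΓSpecIso_naturality (CommRingCat.ofHom i.toRingHom)
      have := congrArg (fun z => (Scheme.ΓSpecIso (CommRingCat.of B)).hom z) e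
      change ((PM i).left.appTop ≫ (Scheme.ΓSpecIso (CommRingCat.of B)).hom) x =
        ((PM i).left.appTop ≫ (Scheme.ΓSpecIso (CommRingCat.of B)).hom) y at this
      rw [PM_left, hn] at this
      exact (Scheme.ΓSpecIso (CommRingCat.of A)).commRingCatIsoToRingEquiv.injective (hi this)
    rw [← hl, Scheme.Hom.comp_appTop] at h1
    exact Function.Injective.of_comp (f := l.appTop) (by simpa using h1)
  haveI : IsIso jZ.appTop := (ConcreteCategory.isIso_iff_bijective _).mpr ⟨hinj, hsurj⟩
  haveI : IsIso jZ :=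
    (HasAffineProperty.iff_of_isAffine (P := MorphismProperty.isomorphisms Scheme) (f := jZ)).mpr ⟨hZ, inferInstance⟩
  ext1
  have hc : jZ ≫ ab = pullback.snd ab (pullback.diagonal X.hom) ≫ pullback.diagonal X.hom := pullback.condition
  have ha := congrArg (fun z => z ≫ pullback.fst X.hom X.hom) hc
  have hb := congrArg (fun z => z ≫ pullback.snd X.hom X.hom) hc
  simp only [Category.assoc, ab, pullback.lift_fst, pullback.lift_snd, pullback.diagonal_fst,
    pullback.diagonal_snd, Category.comp_id] at ha hb
  rw [← cancel_epi jZ, ha, hb]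

/-- the action on points -/
abbrev actPt {G X T : Over SK} [GrpObj G] (a : AlgGrp.Action G X) (g : T ⟶ G) (x : T ⟶ X) : T ⟶ X :=
  lift g x ≫ a.act

theorem comp_actPt {G X T T' : Over SK} [GrpObj G] (a : AlgGrp.Action G X) (f : T' ⟶ T) (g : T ⟶ G) (x : T ⟶ X) :
    f ≫ actPt a g x = actPt a (f ≫ g) (f ≫ x) := by
  rw [actPt, ← Category.assoc, comp_lift]

theorem mul_actPt {G X T : Over SK} [GrpObj G] (a : AlgGrp.Action G X) (g h : T ⟶ G) (x : T ⟶ X) :
    actPt a (g * h) x = actPt a g (actPt a h x) := by
  have := congrArg (fun z => lift (lift g h) x ≫ z) a.mul_act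
  simpa [actPt, Hom.mul_def, ← Category.assoc] using this

variable (k) in
/-- the rational point of `Spec k` -/
def unitPt : 𝟙_ (Over SK) ⟶ P k k :=
  Over.homMk (𝟙 (Spec (CommRingCat.of k))) (by
    simp only [Over.mk_hom]
    exact Spec.map_id _)

theorem hom_P_ext {T : Over SK} (f g : T ⟶ P k k) : f = g := by
  ext1
  have hf := Over.w f
  have hg := Over.w g
  have h1 : (P k k).hom = 𝟙 (Spec (CommRingCat.of k)) := Spec.map_id _
  rw [h1] at hf hg
  exact (Category.comp_id _).symm.trans ((hf.trans hg.symm).trans (Category.comp_id _))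

/-- extension over the origin of a punctured disc -/
theorem exists_lift (X : Over SK) [IsProper X.hom] (y : P k (K k) ⟶ X) :
    ∃ yO : P k (O k) ⟶ X, PM (IsScalarTower.toAlgHom k (O k) (K k)) ≫ yO = y := by
  have hv : ValuativeCriterion X.hom := by
    have h := (inferInstance : IsProper X.hom)
    rw [IsProper.eq_valuativeCriterion] at h
    exact h.1.1.1
  let sq : ValuativeCommSq X.hom :=
    { R := O k, K := K k, i₁ := y.left, i₂ := (P k (O k)).hom
      commSq := ⟨(Over.w y).trans (Over.w (PM (IsScalarTower.toAlgHom k (O k) (K k)))).symm⟩ }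
  haveI := hv.existence sq
  exact ⟨Over.homMk sq.commSq.lift sq.commSq.fac_right, Over.OverMorphism.ext sq.commSq.fac_left⟩

/-- the limit point is fixed by a point admitting a reparametrisation of the orbit disc -/
theorem fixed_of {G X : Over SK} [GrpObj G] [IsSeparated X.hom] (a : AlgGrp.Action G X)
    (y : P k (K k) ⟶ X) (yO : P k (O k) ⟶ X) (hy : PM (IsScalarTower.toAlgHom k (O k) (K k)) ≫ yO = y)
    {A : Type u} [CommRing A] [Algebra k A] (g : P k A ⟶ G) (φ : O k →ₐ[k] B A)
    (h0 : PowerSeries.constantCoeff (φ PowerSeries.X) = 0)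
    (χ ψ : K k →ₐ[k] L A) (hχ : χ.comp (IsScalarTower.toAlgHom k (O k) (K k)) = (jL k A).comp (bcO k A))
    (hψ : ψ.comp (IsScalarTower.toAlgHom k (O k) (K k)) = (jL k A).comp φ)
    (hK : actPt a (PM ((jL k A).comp (cst k A)) ≫ g) (PM χ ≫ y) = PM ψ ≫ y) :
    actPt a g (toUnit _ ≫ unitPt k ≫ PM (cc k k) ≫ yO) = toUnit _ ≫ unitPt k ≫ PM (cc k k) ≫ yO := by
  have hB : actPt a (PM (cst k A) ≫ g) (PM (bcO k A) ≫ yO) = PM φ ≫ yO := by
    apply hom_ext_injective (jL k A) (jL_injective k A)
    rw [comp_actPt, ← Category.assoc, ← PM_comp, ← Category.assoc, ← PM_comp, ← Category.assoc, ← PM_comp,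
      ← hχ, ← hψ, PM_comp _ χ, PM_comp _ ψ, Category.assoc, Category.assoc, hy, hK]
  have h1 := congrArg (fun z => PM (cc k A) ≫ z) hB
  simp only [comp_actPt] at h1
  rw [← Category.assoc, ← PM_comp, ← Category.assoc, ← PM_comp, ← Category.assoc, ← PM_comp,
    hom_ext_O_cc k φ h0, hom_ext_O_cc k (bcO k A) (by rw [bcO_X]; exact PowerSeries.constantCoeff_X)] at h1
  have h2 : (cc k A).comp (cst k A) = AlgHom.id k A := by
    ext c; exact PowerSeries.constantCoeff_C c
  have h3 : PM (AlgHom.id k A) = 𝟙 (P k A) := Over.OverMorphism.ext (Spec.map_id _)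
  rw [h2, h3, Category.id_comp, PM_comp, Category.assoc,
    hom_P_ext (PM (Algebra.ofId k A)) (toUnit _ ≫ unitPt k), Category.assoc] at h1
  exact h1

end GaGmFixLib
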