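import Groth.Agent.GaGmFixLib.Main

set_option autoImplicit false
set_option linter.all false
set_option maxErrors 1000000
set_option backward.isDefEq.respectTransparency false
set_option backward.isDefEq.respectTransparency.types false

universe u

noncomputable section

open CategoryTheory MonoidalCategory CartesianMonoidalCategory AlgebraicGeometry Limits MonObj GrpObj

namespace GaGmFixLib

attribute [-instance] CategoryTheory.Hom.commGroup

variable {k : Type u} [Field k]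

local notation "SK" => Spec (CommRingCat.of k)

variable {A B : Type u} [CommRing A] [CommRing B] [Algebra k A] [Algebra k B]

theorem gammaInv_PM (f : A →ₐ[k] B) (c : A) :
    (PM f).left.appTop ((Scheme.ΓSpecIso (CommRingCat.of A)).inv c) =
      (Scheme.ΓSpecIso (CommRingCat.of B)).inv (f c) := by
  rw [PM_left]
  exact (congrArg (fun h => (CommRingCat.Hom.hom h) c)
    (Scheme.ΓSpecIso_inv_naturality (CommRingCat.ofHom f.toRingHom))).symm

/-- the algebra structure on global functions -/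
abbrev gammaAlg (T : Over SK) : Algebra k Γ(T.left, ⊤) :=
  ((Scheme.ΓSpecIso (CommRingCat.of k)).inv ≫ T.hom.appTop).hom.toAlgebra

/-- to the spectrum of global functions -/
def toP (T : Over SK) : letI := gammaAlg T; T ⟶ P k Γ(T.left, ⊤) :=
  letI := gammaAlg T
  Over.homMk T.left.toSpecΓ (by
    show T.left.toSpecΓ ≫ Spec.map (CommRingCat.ofHom (algebraMap k Γ(T.left, ⊤))) = T.hom
    have h : CommRingCat.ofHom (algebraMap k Γ(T.left, ⊤)) =
        (Scheme.ΓSpecIso (CommRingCat.of k)).inv ≫ T.hom.appTop := rfl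
    rw [h, Spec.map_comp, ← Category.assoc, ← Scheme.toSpecΓ_naturality, Category.assoc,
      toSpecΓ_SpecMap_ΓSpecIso_inv, Category.comp_id])

/-- points of the additive group -/
def gaPt (c : A) : P k A ⟶ Red.Ga SK :=
  Groth.Agent.GaPts.ptOf ((Scheme.ΓSpecIso (CommRingCat.of A)).inv c)

theorem gaFn_gaPt (c : A) : Red.gaFn (gaPt (k := k) c) = (Scheme.ΓSpecIso (CommRingCat.of A)).inv c :=
  Groth.Agent.GaPts.gaFn_ptOf _

theorem PM_gaPt (f : A →ₐ[k] B) (c : A) : PM f ≫ gaPt c = gaPt (f c) := by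
  apply Groth.Agent.GaPts.gaFn_injective
  show Red.gaFn (PM f ≫ gaPt c) = Red.gaFn (gaPt (f c))
  rw [Groth.Agent.GaPts.gaFn_comp, gaFn_gaPt, gaFn_gaPt]
  exact gammaInv_PM f c

theorem gaPt_add (c d : A) : gaPt (k := k) (c + d) = gaPt c * gaPt d := by
  apply Groth.Agent.GaPts.gaFn_injective
  show Red.gaFn (gaPt (k := k) (c + d)) = Red.gaFn (gaPt (k := k) c * gaPt d)
  rw [Groth.Agent.GaPts.gaFn_mul, gaFn_gaPt, gaFn_gaPt, gaFn_gaPt, map_add]

theorem ga_factor (T : Over SK) (g : T ⟶ Red.Ga SK) :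
    letI := gammaAlg T; g = toP T ≫ gaPt (Red.gaFn g) := by
  letI := gammaAlg T
  apply Groth.Agent.GaPts.gaFn_injective
  show Red.gaFn g = Red.gaFn (toP T ≫ gaPt (Red.gaFn g))
  rw [Groth.Agent.GaPts.gaFn_comp, gaFn_gaPt]
  show _ = T.left.toSpecΓ.appTop _
  rw [Scheme.toSpecΓ_appTop]
  exact (Iso.inv_hom_id_apply (Scheme.ΓSpecIso Γ(T.left, ⊤)) _).symm

/-- points of the multiplicative group -/
def gmPt (c : Aˣ) : P k A ⟶ Red.Gm SK :=
  GmPts.ptOfUnit (Units.map (Scheme.ΓSpecIso (CommRingCat.of A)).inv.hom.toMonoidHom c)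

theorem unitOfPt_gmPt (c : Aˣ) : GmPts.unitOfPt (gmPt (k := k) c) =
    Units.map (Scheme.ΓSpecIso (CommRingCat.of A)).inv.hom.toMonoidHom c :=
  GmPts.unitOfPt_ptOfUnit _

theorem unitOfPt_injective {T : Over SK} : Function.Injective (fun t : T ⟶ Red.Gm SK => GmPts.unitOfPt t) :=
  Function.LeftInverse.injective GmPts.ptOfUnit_unitOfPt

theorem PM_gmPt (f : A →ₐ[k] B) (c : Aˣ) : PM f ≫ gmPt c = gmPt (Units.map (f : A →* B) c) := by
  apply unitOfPt_injective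
  show GmPts.unitOfPt (PM f ≫ gmPt c) = GmPts.unitOfPt (gmPt _)
  rw [GmPts.unitOfPt_comp, unitOfPt_gmPt, unitOfPt_gmPt]
  ext
  exact gammaInv_PM f (c : A)

theorem gmPt_mul (c d : Aˣ) : gmPt (k := k) (c * d) = gmPt c * gmPt d := by
  apply unitOfPt_injective
  show GmPts.unitOfPt (gmPt (k := k) (c * d)) = GmPts.unitOfPt (gmPt (k := k) c * gmPt d)
  rw [GmPts.unitOfPt_mul, unitOfPt_gmPt, unitOfPt_gmPt, unitOfPt_gmPt, map_mul]

theorem gm_factor (T : Over SK) (g : T ⟶ Red.Gm SK) :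
    letI := gammaAlg T; g = toP T ≫ gmPt (GmPts.unitOfPt g) := by
  letI := gammaAlg T
  apply unitOfPt_injective
  show GmPts.unitOfPt g = GmPts.unitOfPt (toP T ≫ gmPt (GmPts.unitOfPt g))
  rw [GmPts.unitOfPt_comp, unitOfPt_gmPt]
  ext
  show _ = T.left.toSpecΓ.appTop _
  rw [Scheme.toSpecΓ_appTop]
  exact (Iso.inv_hom_id_apply (Scheme.ΓSpecIso Γ(T.left, ⊤)) _).symm

variable {G X : Over (Spec (CommRingCat.of k))} [GrpObj G] (a : AlgGrp.Action G X)

theorem isFixedPt_of_affine (x : 𝟙_ (Over SK) ⟶ X) {T : Over SK}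
    [Algebra k Γ(T.left, ⊤)] (q : T ⟶ P k Γ(T.left, ⊤)) (g : P k Γ(T.left, ⊤) ⟶ G)
    (h : actPt a g (toUnit _ ≫ x) = toUnit _ ≫ x) : lift (q ≫ g) (toUnit T ≫ x) ≫ a.act = toUnit T ≫ x := by
  have h1 := congrArg (fun z => q ≫ z) h
  simp only [comp_actPt] at h1
  rwa [← Category.assoc, toUnit_unique (q ≫ toUnit _) (toUnit T)] at h1

theorem exists_fixedPt_ga [IsProper X.hom] (x₀ : 𝟙_ (Over SK) ⟶ X) (φG : Red.Ga SK ⟶ G) [IsMonHom φG]
    (hsurj : ∀ (T : Over SK) (g : T ⟶ G), ∃ g₀ : T ⟶ Red.Ga SK, g₀ ≫ φG = g) :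
    ∃ x : 𝟙_ (Over SK) ⟶ X, a.IsFixedPt x := by
  let s : O k := PowerSeries.X
  let w : K k := (algebraMap (O k) (K k) s)⁻¹
  obtain ⟨yO, hyO⟩ := exists_lift X (actPt a (gaPt w ≫ φG) (toUnit _ ≫ x₀))
  refine ⟨unitPt k ≫ PM (cc k k) ≫ yO, fun T g => ?_⟩
  obtain ⟨g₀, rfl⟩ := hsurj T g
  letI := gammaAlg T
  rw [ga_factor T g₀, Category.assoc]
  refine isFixedPt_of_affine a _ _ _ ?_
  generalize Red.gaFn g₀ = c
  obtain ⟨φ, v, hφ, hv⟩ := exists_addSub k c
  have hX := jL_X_isUnit k Γ(T.left, ⊤)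
  have hv' : IsUnit v := IsUnit.of_mul_eq_one (1 + PowerSeries.C c * PowerSeries.X) hv
  obtain ⟨χ, hχ⟩ := exists_ext k (bcO k Γ(T.left, ⊤)) (by rw [bcO_X]; exact hX)
  obtain ⟨ψ, hψ⟩ := exists_ext k φ (by rw [hφ, map_mul]; exact hX.mul (hv'.map _))
  refine fixed_of a _ yO hyO _ φ (by rw [hφ, map_mul, PowerSeries.constantCoeff_X, zero_mul]) χ ψ hχ hψ ?_
  have hs : algebraMap (O k) (K k) s ≠ 0 :=
    (map_ne_zero_iff _ (IsFractionRing.injective (O k) (K k))).mpr PowerSeries.X_ne_zero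
  have e1 : χ (algebraMap (O k) (K k) s) = jL k _ PowerSeries.X := by
    have := DFunLike.congr_fun hχ s
    simpa [s, bcO_X] using this
  have e2 : ψ (algebraMap (O k) (K k) s) = jL k _ (PowerSeries.X * v) := by
    have := DFunLike.congr_fun hψ s
    simpa [s, hφ] using this
  have key : ψ w = jL k _ (cst k _ c) + χ w := by
    have p1 : ψ w * ψ (algebraMap (O k) (K k) s) = 1 := by rw [← map_mul, inv_mul_cancel₀ hs, map_one]
    have p2 : χ w * jL k Γ(T.left, ⊤) PowerSeries.X = 1 := by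
      rw [← e1, ← map_mul, inv_mul_cancel₀ hs, map_one]
    have p3 : (jL k _ (cst k _ c) + χ w) * ψ (algebraMap (O k) (K k) s) = 1 := by
      have p4 : jL k Γ(T.left, ⊤) v * jL k _ (1 + PowerSeries.C c * PowerSeries.X) = 1 := by
        rw [← map_mul, hv, map_one]
      rw [map_add, map_one, map_mul] at p4
      rw [e2, map_mul]
      show (jL k _ (PowerSeries.C c) + χ w) * _ = 1
      linear_combination p4 + (jL k Γ(T.left, ⊤) v) * p2
    rw [e2] at p1 p3
    exact (left_inv_eq_right_inv p1 (by rw [mul_comm]; exact p3))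
  simp only [comp_actPt]
  rw [← Category.assoc (PM ((jL k Γ(T.left, ⊤)).comp (cst k _))), PM_gaPt, ← Category.assoc (PM χ), PM_gaPt,
    ← Category.assoc (PM ψ) (gaPt w), PM_gaPt, key, ← Category.assoc (PM χ) (toUnit _), ← Category.assoc (PM ψ) (toUnit _),
    toUnit_unique (PM χ ≫ toUnit _) (toUnit _), toUnit_unique (PM ψ ≫ toUnit _) (toUnit _), gaPt_add,
    MonObj.mul_comp, mul_actPt]
  rfl

theorem exists_fixedPt_gm [IsProper X.hom] (x₀ : 𝟙_ (Over SK) ⟶ X) (φG : Red.Gm SK ⟶ G) [IsMonHom φG]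
    (hsurj : ∀ (T : Over SK) (g : T ⟶ G), ∃ g₀ : T ⟶ Red.Gm SK, g₀ ≫ φG = g) :
    ∃ x : 𝟙_ (Over SK) ⟶ X, a.IsFixedPt x := by
  let s : O k := PowerSeries.X
  have hs : algebraMap (O k) (K k) s ≠ 0 :=
    (map_ne_zero_iff _ (IsFractionRing.injective (O k) (K k))).mpr PowerSeries.X_ne_zero
  let w : (K k)ˣ := Units.mk0 _ hs
  obtain ⟨yO, hyO⟩ := exists_lift X (actPt a (gmPt w ≫ φG) (toUnit _ ≫ x₀))
  refine ⟨unitPt k ≫ PM (cc k k) ≫ yO, fun T g => ?_⟩
  obtain ⟨g₀, rfl⟩ := hsurj T g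
  letI := gammaAlg T
  rw [gm_factor T g₀, Category.assoc]
  refine isFixedPt_of_affine a _ _ _ ?_
  generalize GmPts.unitOfPt g₀ = c
  obtain ⟨φ, hφ⟩ := exists_mulSub k (c : Γ(T.left, ⊤))
  have hX := jL_X_isUnit k Γ(T.left, ⊤)
  have hc : IsUnit (jL k _ (PowerSeries.C (c : Γ(T.left, ⊤)))) := (c.isUnit.map PowerSeries.C).map _
  obtain ⟨χ, hχ⟩ := exists_ext k (bcO k Γ(T.left, ⊤)) (by rw [bcO_X]; exact hX)
  obtain ⟨ψ, hψ⟩ := exists_ext k φ (by rw [hφ, map_mul]; exact hc.mul hX)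
  refine fixed_of a _ yO hyO _ φ (by rw [hφ, map_mul, PowerSeries.constantCoeff_X, mul_zero]) χ ψ hχ hψ ?_
  have e1 : χ (algebraMap (O k) (K k) s) = jL k _ PowerSeries.X := by
    have := DFunLike.congr_fun hχ s
    simpa [s, bcO_X] using this
  have e2 : ψ (algebraMap (O k) (K k) s) = jL k _ (PowerSeries.C (c : Γ(T.left, ⊤)) * PowerSeries.X) := by
    have := DFunLike.congr_fun hψ s
    simpa [s, hφ] using this
  have key : Units.map (ψ : K k →* L Γ(T.left, ⊤)) w =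
      Units.map ((jL k Γ(T.left, ⊤)).comp (cst k _) : Γ(T.left, ⊤) →* L Γ(T.left, ⊤)) c *
        Units.map (χ : K k →* L Γ(T.left, ⊤)) w := by
    ext
    simp only [Units.coe_map, Units.val_mul, MonoidHom.coe_coe]
    show ψ (algebraMap (O k) (K k) s) = jL k _ (PowerSeries.C (c : Γ(T.left, ⊤))) * χ (algebraMap (O k) (K k) s)
    rw [e1, e2, map_mul]
  simp only [comp_actPt]
  rw [← Category.assoc (PM ((jL k Γ(T.left, ⊤)).comp (cst k _))), PM_gmPt, ← Category.assoc (PM χ), PM_gmPt,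
    ← Category.assoc (PM ψ) (gmPt w), PM_gmPt, key, ← Category.assoc (PM χ) (toUnit _), ← Category.assoc (PM ψ) (toUnit _),
    toUnit_unique (PM χ ≫ toUnit _) (toUnit _), toUnit_unique (PM ψ ≫ toUnit _) (toUnit _), gmPt_mul,
    MonObj.mul_comp, mul_actPt]

end GaGmFixLib
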